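import Groth.Agent.RDerBC.Lift
import Groth.Agent.SiteBase.Horseshoe
import Groth.Prelude.Def_RDerDelta
import Mathlib.Algebra.Homology.HomologySequenceLemmas

/-!
# The comparison `R^qΦ F ⟶ Q (R^qΦ' G)` of a square of functors commutes with connecting maps
-/

set_option autoImplicit false
set_option linter.style.haveILetI false
set_option backward.isDefEq.respectTransparency false
set_option backward.isDefEq.respectTransparency.types false
set_option maxHeartbeats 800000

universe v v₁ v₂ v₃ u u₁ u₂ u₃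

open CategoryTheory CategoryTheory.Limits HomologicalComplex

namespace Groth.Agent.RDerBC

variable {A : Type u} [Category.{v} A] [Abelian A] [HasInjectiveResolutions A]
  {A' : Type u₁} [Category.{v₁} A'] [Abelian A'] [HasInjectiveResolutions A']
  {C : Type u₂} [Category.{v₂} C] [Abelian C] {C' : Type u₃} [Category.{v₃} C'] [Abelian C']
  (P : A' ⥤ A) [P.Additive] [P.PreservesInjectiveObjects] (Φ : A ⥤ C) [Φ.Additive]
  (Φ' : A' ⥤ C') [Φ'.Additive] (Q : C' ⥤ C) [Q.Additive] [PreservesFiniteLimits Q] (e : P ⋙ Φ ≅ Φ' ⋙ Q)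

/-- the comparison, as in the prelude's base change morphism -/
noncomputable def bcGen {F : A} {G : A'} (η : F ⟶ P.obj G) (q : ℕ) :
    (Φ.rightDerived q).obj F ⟶ Q.obj ((Φ'.rightDerived q).obj G) :=
  (Φ.rightDerived q).map η ≫ RDer.edgeIn P Φ q G ≫ (RDer.rightDerivedIso e q).hom.app G ≫ RDer.edgeOut Φ' Q q G

/-- the map of complexes -/
noncomputable def cxMap {I : CochainComplex A ℕ} {K : CochainComplex A' ℕ}
    (r : I ⟶ (P.mapHomologicalComplex _).obj K) :
    (Φ.mapHomologicalComplex _).obj I ⟶ (Q.mapHomologicalComplex _).obj ((Φ'.mapHomologicalComplex _).obj K) :=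
  (Φ.mapHomologicalComplex _).map r ≫ (NatTrans.mapHomologicalComplex e.hom (ComplexShape.up ℕ)).app K

/-- formula through arbitrary resolutions -/
theorem bcGen_eq {F : A} {G : A'} (η : F ⟶ P.obj G) (I : InjectiveResolution F) (K : InjectiveResolution G)
    (r : I.cocomplex ⟶ (P.mapHomologicalComplex _).obj K.cocomplex)
    (hr : I.ι.f 0 ≫ r.f 0 = η ≫ P.map (K.ι.f 0)) (q : ℕ) :
    bcGen P Φ Φ' Q e η q = (I.isoRightDerivedObj Φ q).hom ≫ homologyMap (cxMap P Φ Φ' Q e r) q ≫
      RDer.homologyComparison Q ((Φ'.mapHomologicalComplex _).obj K.cocomplex) q ≫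
        Q.map (K.isoRightDerivedObj Φ' q).inv := by
  let I₀ := injectiveResolution F
  let K₀ := injectiveResolution G
  let J := injectiveResolution (P.obj G)
  let r₁ := InjectiveResolution.desc η J I₀
  have hr₁ : I₀.ι.f 0 ≫ r₁.f 0 = η ≫ J.ι.f 0 := InjectiveResolution.desc_commutes_zero _ _ _
  let PK := (P.mapHomologicalComplex _).obj K₀.cocomplex
  let d := RDer.descToInjectives (𝟙 (P.obj G)) J.cocomplex J.ι PK (RDer.mapAug P K₀.ι)
  have hd : J.ι.f 0 ≫ d.f 0 = P.map (K₀.ι.f 0) := by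
    refine (RDer.ι_descToInjectives_f_zero _ _ _ _ _).trans ?_
    simp [RDer.mapAug]
  have key : bcGen P Φ Φ' Q e η q = (I₀.isoRightDerivedObj Φ q).hom ≫
      homologyMap (cxMap P Φ Φ' Q e (r₁ ≫ d)) q ≫
      RDer.homologyComparison Q ((Φ'.mapHomologicalComplex _).obj K₀.cocomplex) q ≫
      Q.map (K₀.isoRightDerivedObj Φ' q).inv := by
    have h1 : (Φ.rightDerived q).map η = (I₀.isoRightDerivedObj Φ q).hom ≫
        homologyMap ((Φ.mapHomologicalComplex _).map r₁) q ≫ (J.isoRightDerivedObj Φ q).inv := by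
      rw [← Category.assoc]
      exact (Iso.eq_comp_inv _).2 (InjectiveResolution.isoRightDerivedObj_hom_naturality η I₀ J r₁ hr₁ Φ q)
    have h3 : (RDer.rightDerivedIso e q).hom.app G =
        (K₀.isoRightDerivedObj (P ⋙ Φ) q).hom ≫
          homologyMap ((NatTrans.mapHomologicalComplex e.hom (ComplexShape.up ℕ)).app K₀.cocomplex) q ≫
          (K₀.isoRightDerivedObj (Φ' ⋙ Q) q).inv :=
      InjectiveResolution.rightDerived_app_eq _ K₀ q
    unfold bcGen cxMap
    rw [h1, h3, Functor.map_comp, homologyMap_comp, homologyMap_comp]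
    simp only [RDer.edgeIn, RDer.edgeOut, Category.assoc, J, K₀, Iso.inv_hom_id_assoc]
    simp only [HomologicalComplex.homologyFunctor_map, Iso.inv_hom_id_assoc]
    rfl
  let c := InjectiveResolution.desc (𝟙 F) I I₀
  let c' := InjectiveResolution.desc (𝟙 G) K K₀
  have hc : I₀.ι.f 0 ≫ c.f 0 = 𝟙 F ≫ I.ι.f 0 := InjectiveResolution.desc_commutes_zero _ _ _
  have hc' : K₀.ι.f 0 ≫ c'.f 0 = 𝟙 G ≫ K.ι.f 0 := InjectiveResolution.desc_commutes_zero _ _ _
  have hinj : ∀ k, Injective (((P.mapHomologicalComplex (ComplexShape.up ℕ)).obj K.cocomplex).X k) :=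
    fun k => inferInstance
  have eI : (I₀.isoRightDerivedObj Φ q).hom ≫ homologyMap ((Φ.mapHomologicalComplex _).map c) q =
      (I.isoRightDerivedObj Φ q).hom := by
    have := InjectiveResolution.isoRightDerivedObj_hom_naturality (𝟙 F) I₀ I c hc Φ q
    rw [CategoryTheory.Functor.map_id, Category.id_comp] at this
    exact this.symm
  have eK : homologyMap ((Φ'.mapHomologicalComplex _).map c') q ≫ (K.isoRightDerivedObj Φ' q).inv =
      (K₀.isoRightDerivedObj Φ' q).inv := by
    have := InjectiveResolution.isoRightDerivedObj_inv_naturality (𝟙 G) K₀ K c' hc' Φ' q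
    rw [CategoryTheory.Functor.map_id, Category.comp_id] at this
    exact this.symm
  have hh := homologyMap_eq_of_aug I₀.cocomplex I₀.ι ((P.mapHomologicalComplex _).obj K.cocomplex) Φ (c ≫ r)
    ((r₁ ≫ d) ≫ (P.mapHomologicalComplex _).map c') (by
      simp only [HomologicalComplex.comp_f, Functor.mapHomologicalComplex_map_f, Category.assoc]
      rw [reassoc_of% hc, hr, reassoc_of% hr₁, reassoc_of% hd, ← P.map_comp, hc', Category.id_comp]) q
  rw [key, ← eI, ← eK]
  simp only [Category.assoc, Q.map_comp]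
  rw [← reassoc_of% (homologyComparison_natural Q ((Φ'.mapHomologicalComplex _).map c') q),
    ← homologyMap_comp_assoc, ← homologyMap_comp_assoc]
  congr 2
  have hnat : (NatTrans.mapHomologicalComplex e.hom (ComplexShape.up ℕ)).app K₀.cocomplex ≫
      (Q.mapHomologicalComplex _).map ((Φ'.mapHomologicalComplex _).map c') =
      (Φ.mapHomologicalComplex _).map ((P.mapHomologicalComplex _).map c') ≫
        (NatTrans.mapHomologicalComplex e.hom (ComplexShape.up ℕ)).app K.cocomplex :=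
    ((NatTrans.mapHomologicalComplex e.hom (ComplexShape.up ℕ)).naturality c').symm
  unfold cxMap
  rw [Category.assoc, hnat, ← Category.assoc, ← Functor.map_comp, ← Category.assoc, ← Functor.map_comp,
    homologyMap_comp, homologyMap_comp, hh]

/-- naturality -/
theorem bcGen_natural {F F₂ : A} {G G₂ : A'} (η : F ⟶ P.obj G) (η₂ : F₂ ⟶ P.obj G₂) (a : F ⟶ F₂) (b : G ⟶ G₂)
    (h : a ≫ η₂ = η ≫ P.map b) (q : ℕ) :
    (Φ.rightDerived q).map a ≫ bcGen P Φ Φ' Q e η₂ q = bcGen P Φ Φ' Q e η q ≫ Q.map ((Φ'.rightDerived q).map b) := by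
  let I := injectiveResolution F
  let I₂ := injectiveResolution F₂
  let K := injectiveResolution G
  let K₂ := injectiveResolution G₂
  let mk : ∀ {M : A} {N : A'} (η' : M ⟶ P.obj N) (J : InjectiveResolution M) (L : InjectiveResolution N),
      { r : J.cocomplex ⟶ (P.mapHomologicalComplex _).obj L.cocomplex //
        J.ι.f 0 ≫ r.f 0 = η' ≫ P.map (L.ι.f 0) } := fun η' J L =>
    ⟨RDer.descToInjectives η' J.cocomplex J.ι _ (RDer.mapAug P L.ι), by
      refine (RDer.ι_descToInjectives_f_zero _ _ _ _ _).trans ?_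
      simp [RDer.mapAug]⟩
  let r := mk η I K
  let r₂ := mk η₂ I₂ K₂
  let α := InjectiveResolution.desc a I₂ I
  let β := InjectiveResolution.desc b K₂ K
  have hα : I.ι.f 0 ≫ α.f 0 = a ≫ I₂.ι.f 0 := InjectiveResolution.desc_commutes_zero _ _ _
  have hβ : K.ι.f 0 ≫ β.f 0 = b ≫ K₂.ι.f 0 := InjectiveResolution.desc_commutes_zero _ _ _
  have hinj : ∀ k, Injective (((P.mapHomologicalComplex (ComplexShape.up ℕ)).obj K₂.cocomplex).X k) :=
    fun k => inferInstance
  have hh := homologyMap_eq_of_aug I.cocomplex I.ι ((P.mapHomologicalComplex _).obj K₂.cocomplex) Φ (α ≫ r₂.1)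
    (r.1 ≫ (P.mapHomologicalComplex _).map β) (by
      simp only [HomologicalComplex.comp_f, Functor.mapHomologicalComplex_map_f]
      rw [reassoc_of% hα, r₂.2, reassoc_of% r.2, ← P.map_comp, hβ, P.map_comp, reassoc_of% h]) q
  rw [bcGen_eq P Φ Φ' Q e η I K r.1 r.2, bcGen_eq P Φ Φ' Q e η₂ I₂ K₂ r₂.1 r₂.2,
    ← Category.assoc, InjectiveResolution.isoRightDerivedObj_hom_naturality a I I₂ α hα Φ q]
  simp only [Category.assoc, ← Q.map_comp]
  rw [InjectiveResolution.isoRightDerivedObj_inv_naturality b K K₂ β hβ Φ' q, Q.map_comp]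
  simp only [Functor.comp_map, HomologicalComplex.homologyFunctor_map]
  rw [← reassoc_of% (homologyComparison_natural Q ((Φ'.mapHomologicalComplex _).map β) q),
    ← homologyMap_comp_assoc, ← homologyMap_comp_assoc]
  congr 2
  have hnat : (NatTrans.mapHomologicalComplex e.hom (ComplexShape.up ℕ)).app K.cocomplex ≫
      (Q.mapHomologicalComplex _).map ((Φ'.mapHomologicalComplex _).map β) =
      (Φ.mapHomologicalComplex _).map ((P.mapHomologicalComplex _).map β) ≫
        (NatTrans.mapHomologicalComplex e.hom (ComplexShape.up ℕ)).app K₂.cocomplex :=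
    ((NatTrans.mapHomologicalComplex e.hom (ComplexShape.up ℕ)).naturality β).symm
  unfold cxMap
  rw [Category.assoc, hnat, ← Category.assoc, ← Functor.map_comp, ← Category.assoc, ← Functor.map_comp,
    homologyMap_comp, homologyMap_comp, hh]

/-- compatibility with connecting maps -/
theorem bcGen_δ {S : ShortComplex A} (hS : S.ShortExact) {S' : ShortComplex A'} (hS' : S'.ShortExact)
    (φ : S ⟶ S'.map P) (n₀ n₁ : ℕ) (h : n₀ + 1 = n₁) :
    (SESResLib.derivedLES Φ).δ S hS n₀ n₁ h ≫ bcGen P Φ Φ' Q e φ.τ₁ n₁ =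
      bcGen P Φ Φ' Q e φ.τ₃ n₀ ≫ Q.map ((SESResLib.derivedLES Φ').δ S' hS' n₀ n₁ h) := by
  obtain ⟨T⟩ : Nonempty (RDer.SESRes S) := SESResLib.nonempty_sesRes_of_hasInjectiveResolutions hS
  obtain ⟨T'⟩ : Nonempty (RDer.SESRes S') := SESResLib.nonempty_sesRes_of_hasInjectiveResolutions hS'
  let Pc := P.mapHomologicalComplex (ComplexShape.up ℕ)
  let U : Target (S'.map P) :=
    { L := T'.cx.map Pc
      split := fun n => (SESResLib.split T' n).map P
      inj := fun n => by
        have := T'.I₁.injective n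
        exact P.injective_obj _
      j₁ := P.map (SESResLib.ι₀ T'.I₁)
      j₂ := P.map (SESResLib.ι₀ T'.I₂)
      j₃ := P.map (SESResLib.ι₀ T'.I₃)
      j₂_d := by
        show P.map _ ≫ P.map _ = 0
        rw [← P.map_comp, SESResLib.ι₀_d, P.map_zero]
      j_f := by
        show P.map _ ≫ P.map _ = P.map _ ≫ P.map _
        rw [← P.map_comp, ← P.map_comp, SESResLib.ι₀_comm T'.ι_f]
      j_g := by
        show P.map _ ≫ P.map _ = P.map _ ≫ P.map _
        rw [← P.map_comp, ← P.map_comp, SESResLib.ι₀_comm T'.ι_g] }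
  have i₁ : ∀ k, Injective ((Pc.obj T'.I₁.cocomplex).X k) := fun k => inferInstance
  have i₃ : ∀ k, Injective ((Pc.obj T'.I₃.cocomplex).X k) := fun k => inferInstance
  let a := RDer.descToInjectives φ.τ₁ T.I₁.cocomplex T.I₁.ι (Pc.obj T'.I₁.cocomplex) (RDer.mapAug P T'.I₁.ι)
  let c := RDer.descToInjectives φ.τ₃ T.I₃.cocomplex T.I₃.ι (Pc.obj T'.I₃.cocomplex) (RDer.mapAug P T'.I₃.ι)
  have ha : T.I₁.ι.f 0 ≫ a.f 0 = φ.τ₁ ≫ P.map (T'.I₁.ι.f 0) := by
    refine (RDer.ι_descToInjectives_f_zero _ _ _ _ _).trans ?_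
    simp [RDer.mapAug]
    erw [Category.id_comp]
  have hc : T.I₃.ι.f 0 ≫ c.f 0 = φ.τ₃ ≫ P.map (T'.I₃.ι.f 0) := by
    refine (RDer.ι_descToInjectives_f_zero _ _ _ _ _).trans ?_
    simp [RDer.mapAug]
    erw [Category.id_comp]
  obtain ⟨ψ, hψ₁, hψ₃⟩ := exists_cxHom φ T U a c ha hc hS.exact
  rw [(SESResLib.derivedLES Φ).δ_eq S hS T, (SESResLib.derivedLES Φ').δ_eq S' hS' T',
    bcGen_eq P Φ Φ' Q e φ.τ₁ T.I₁ T'.I₁ a ha, bcGen_eq P Φ Φ' Q e φ.τ₃ T.I₃ T'.I₃ c hc,
    RDer.SESRes.delta_comp_isoRightDerivedObj_hom_assoc]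
  let L₀ := T'.cx.map (Φ'.mapHomologicalComplex (ComplexShape.up ℕ))
  have hQ : (L₀.map (Q.mapHomologicalComplex (ComplexShape.up ℕ))).ShortExact :=
    shortExact_map_of_splitting Q (S := L₀) (fun n => (SESResLib.split T' n).map Φ')
  have hd := homologyComparison_δ Q (S := L₀) (fun n => (SESResLib.split T' n).map Φ')
    (T'.map_shortExact Φ') hQ n₀ n₁ h
  let eT : T'.cx.map Pc ⟶ T'.cx.map Pc := 𝟙 _
  let Ψ : T.cx.map (Φ.mapHomologicalComplex (ComplexShape.up ℕ)) ⟶ L₀.map (Q.mapHomologicalComplex (ComplexShape.up ℕ)) :=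
    { τ₁ := cxMap P Φ Φ' Q e a
      τ₂ := cxMap P Φ Φ' Q e ψ.τ₂
      τ₃ := cxMap P Φ Φ' Q e c
      comm₁₂ := by
        show cxMap P Φ Φ' Q e a ≫ (Q.mapHomologicalComplex _).map ((Φ'.mapHomologicalComplex _).map T'.f) =
          (Φ.mapHomologicalComplex _).map T.f ≫ cxMap P Φ Φ' Q e ψ.τ₂
        have hn := (NatTrans.mapHomologicalComplex e.hom (ComplexShape.up ℕ)).naturality T'.f
        unfold cxMap
        rw [Category.assoc]
        erw [← hn]
        rw [← Category.assoc, ← Category.assoc, ← Functor.map_comp, ← hψ₁]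
        erw [← ψ.comm₁₂]
        rw [Functor.map_comp]
        rfl
      comm₂₃ := by
        show cxMap P Φ Φ' Q e ψ.τ₂ ≫ (Q.mapHomologicalComplex _).map ((Φ'.mapHomologicalComplex _).map T'.g) =
          (Φ.mapHomologicalComplex _).map T.g ≫ cxMap P Φ Φ' Q e c
        have hn := (NatTrans.mapHomologicalComplex e.hom (ComplexShape.up ℕ)).naturality T'.g
        unfold cxMap
        rw [Category.assoc]
        erw [← hn]
        rw [← Category.assoc, ← Category.assoc, ← Functor.map_comp, ← hψ₃]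
        erw [← ψ.comm₂₃]
        rw [Functor.map_comp]
        rfl }
  have nat := HomologicalComplex.HomologySequence.δ_naturality Ψ (T.map_shortExact Φ) hQ n₀ n₁ h
  unfold RDer.SESRes.delta
  simp only [Category.assoc, Q.map_comp]
  congr 1
  have e3 : Q.map (T'.I₃.isoRightDerivedObj Φ' n₀).inv ≫ Q.map (T'.I₃.isoRightDerivedObj Φ' n₀).hom = 𝟙 _ := by
    rw [← Q.map_comp, Iso.inv_hom_id, Q.map_id]
  erw [reassoc_of% e3]
  refine Eq.trans ((reassoc_of% nat) _) ?_
  exact congrArg (homologyMap (cxMap P Φ Φ' Q e c) n₀ ≫ ·) ((reassoc_of% hd) _)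

end Groth.Agent.RDerBC
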