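import Groth.Agent.RDerBC.Edge

/-!
# Transport of derived functors commutes with connecting maps
-/

set_option autoImplicit false
set_option linter.style.haveILetI false
set_option backward.isDefEq.respectTransparency false
set_option backward.isDefEq.respectTransparency.types false
set_option maxHeartbeats 800000

universe v v₁ u u₁

open CategoryTheory CategoryTheory.Limits HomologicalComplex

namespace Groth.Agent.RDerBC

variable {A : Type u} [Category.{v} A] [Abelian A] [HasInjectiveResolutions A]
  {C : Type u₁} [Category.{v₁} C] [Abelian C]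

/-- derived natural transformations commute with connecting maps -/
theorem rightDerived_δ {Φ Φ' : A ⥤ C} [Φ.Additive] [Φ'.Additive] (α : Φ ⟶ Φ') {S : ShortComplex A}
    (hS : S.ShortExact) (n₀ n₁ : ℕ) (h : n₀ + 1 = n₁) :
    (SESResLib.derivedLES Φ).δ S hS n₀ n₁ h ≫ (NatTrans.rightDerived α n₁).app S.X₁ =
      (NatTrans.rightDerived α n₀).app S.X₃ ≫ (SESResLib.derivedLES Φ').δ S hS n₀ n₁ h := by
  obtain ⟨T⟩ : Nonempty (RDer.SESRes S) := SESResLib.nonempty_sesRes_of_hasInjectiveResolutions hS
  let β := NatTrans.mapHomologicalComplex α (ComplexShape.up ℕ)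
  let Ψ : T.cx.map (Φ.mapHomologicalComplex (ComplexShape.up ℕ)) ⟶
      T.cx.map (Φ'.mapHomologicalComplex (ComplexShape.up ℕ)) :=
    { τ₁ := β.app _
      τ₂ := β.app _
      τ₃ := β.app _
      comm₁₂ := (β.naturality T.cx.f).symm
      comm₂₃ := (β.naturality T.cx.g).symm }
  have nat := HomologicalComplex.HomologySequence.δ_naturality Ψ (T.map_shortExact Φ) (T.map_shortExact Φ') n₀ n₁ h
  rw [(SESResLib.derivedLES Φ).δ_eq S hS T, (SESResLib.derivedLES Φ').δ_eq S hS T,
    InjectiveResolution.rightDerived_app_eq α T.I₁ n₁, InjectiveResolution.rightDerived_app_eq α T.I₃ n₀]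
  unfold RDer.SESRes.delta
  simp only [Category.assoc, Iso.inv_hom_id_assoc]
  exact congrArg ((T.I₃.isoRightDerivedObj Φ n₀).hom ≫ ·) ((reassoc_of% nat) _)

end Groth.Agent.RDerBC
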