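import Groth.Prelude.Def_RDer
import Mathlib.Algebra.Homology.HomologySequenceLemmas
import Mathlib.Algebra.Homology.HomologicalComplexAbelian
import Mathlib.Algebra.Homology.Homotopy

/-!
# Homotopy uniqueness; homology comparison of left exact functors and connecting maps
-/

set_option autoImplicit false
set_option linter.style.haveILetI false
set_option backward.isDefEq.respectTransparency false
set_option backward.isDefEq.respectTransparency.types false

universe v u v' u'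

open CategoryTheory CategoryTheory.Limits HomologicalComplex

namespace Groth.Agent.RDerBC

section Homotopy

variable {A : Type u} [Category.{v} A] [Abelian A] {Y : A} (K : CochainComplex A ℕ)
  (ι : (CochainComplex.single₀ A).obj Y ⟶ K) [QuasiIso ι] (L : CochainComplex A ℕ) [hL : ∀ n, Injective (L.X n)]

set_option backward.isDefEq.respectTransparency false in
/-- maps out of a resolution into a complex of injectives agreeing on the resolved object are homotopic -/
theorem nonempty_homotopy (f g : K ⟶ L) (h : ι.f 0 ≫ f.f 0 = ι.f 0 ≫ g.f 0) : Nonempty (Homotopy f g) := by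
  suffices H : ∀ φ : K ⟶ L, ι.f 0 ≫ φ.f 0 = 0 → Nonempty (Homotopy φ 0) by
    obtain ⟨H⟩ := H (f - g) (by simp [h])
    exact ⟨Homotopy.equivSubZero.symm H⟩
  intro φ hφ
  let h₀ : K.X 1 ⟶ L.X 0 := (RDer.res_exact₀ K ι).descToInjective (φ.f 0) hφ
  have e₀ : K.d 0 1 ≫ h₀ = φ.f 0 := (RDer.res_exact₀ K ι).comp_descToInjective _ _
  let h₁ : K.X 2 ⟶ L.X 1 := (RDer.res_exact_succ K ι 0).descToInjective (φ.f 1 - h₀ ≫ L.d 0 1) (by
    show K.d 0 1 ≫ (φ.f 1 - h₀ ≫ L.d 0 1) = 0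
    rw [Preadditive.comp_sub, reassoc_of% e₀, φ.comm, sub_self])
  have e₁ : K.d 1 2 ≫ h₁ = φ.f 1 - h₀ ≫ L.d 0 1 := (RDer.res_exact_succ K ι 0).comp_descToInjective _ _
  refine ⟨Homotopy.mkCoinductive φ h₀ e₀.symm h₁ (by rw [e₁, add_sub_cancel]) fun n ⟨g₀, g₁, w⟩ =>
    ⟨(RDer.res_exact_succ K ι (n + 1)).descToInjective (φ.f (n + 2) - g₁ ≫ L.d (n + 1) (n + 2)) ?_, ?_⟩⟩
  · show K.d (n + 1) (n + 2) ≫ (φ.f (n + 2) - g₁ ≫ L.d (n + 1) (n + 2)) = 0
    rw [Preadditive.comp_sub, ← φ.comm, w, Preadditive.add_comp]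
    simp [add_comm]
  · refine Eq.trans ?_ (congrArg (fun t => g₁ ≫ L.d (n + 1) (n + 2) + t)
      ((RDer.res_exact_succ K ι (n + 1)).comp_descToInjective (φ.f (n + 2) - g₁ ≫ L.d (n + 1) (n + 2)) _)).symm
    simp

include ι in
/-- induced maps on homology agree after any additive functor -/
theorem homologyMap_eq_of_aug {B : Type u'} [Category.{v'} B] [Abelian B] (Φ : A ⥤ B) [Φ.Additive] (f g : K ⟶ L)
    (h : ι.f 0 ≫ f.f 0 = ι.f 0 ≫ g.f 0) (n : ℕ) :
    homologyMap ((Φ.mapHomologicalComplex _).map f) n = homologyMap ((Φ.mapHomologicalComplex _).map g) n := by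
  obtain ⟨H⟩ := nonempty_homotopy K ι L f g h
  exact (Φ.mapHomotopy H).homologyMap_eq n

end Homotopy

section Comparison

variable {B : Type u} [Category.{v} B] [Abelian B] {C : Type u'} [Category.{v'} C] [Abelian C]
  (Ψ : B ⥤ C) [Ψ.Additive] [PreservesFiniteLimits Ψ] {ι : Type} {c : ComplexShape ι}

/-- naturality of the comparison -/
theorem homologyComparison_natural {K L : HomologicalComplex B c} (φ : K ⟶ L) (i : ι) :
    homologyMap ((Ψ.mapHomologicalComplex c).map φ) i ≫ RDer.homologyComparison Ψ L i =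
      RDer.homologyComparison Ψ K i ≫ Ψ.map (homologyMap φ i) := by
  rw [← cancel_epi (((Ψ.mapHomologicalComplex c).obj K).homologyπ i), homologyπ_naturality_assoc,
    RDer.homologyπ_homologyComparison, RDer.homologyπ_homologyComparison_assoc, ← Ψ.map_comp,
    homologyπ_naturality, Ψ.map_comp, ← Category.assoc, ← Category.assoc]
  congr 1
  haveI : Mono (Ψ.map (L.iCycles i)) := inferInstance
  rw [← cancel_mono (Ψ.map (L.iCycles i)), Category.assoc, Category.assoc, RDer.cyclesComparison_i,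
    cyclesMap_i, ← Ψ.map_comp, cyclesMap_i, Ψ.map_comp, RDer.cyclesComparison_i_assoc]
  rfl

variable {S : ShortComplex (CochainComplex B ℕ)}

omit [PreservesFiniteLimits Ψ] in
/-- degreewise split sequences stay short exact -/
theorem shortExact_map_of_splitting (σ : ∀ n, (S.map (HomologicalComplex.eval B _ n)).Splitting) :
    (S.map (Ψ.mapHomologicalComplex (ComplexShape.up ℕ))).ShortExact :=
  HomologicalComplex.shortExact_of_degreewise_shortExact _ fun n => ((σ n).map Ψ).shortExact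

/-- the comparison commutes with connecting maps of degreewise split sequences -/
theorem homologyComparison_δ (σ : ∀ n, (S.map (HomologicalComplex.eval B _ n)).Splitting) (hS : S.ShortExact)
    (hS' : (S.map (Ψ.mapHomologicalComplex (ComplexShape.up ℕ))).ShortExact) (i j : ℕ) (hij : i + 1 = j) :
    hS'.δ i j hij ≫ RDer.homologyComparison Ψ S.X₁ j = RDer.homologyComparison Ψ S.X₃ i ≫ Ψ.map (hS.δ i j hij) := by
  subst hij
  let K₃ := ((Ψ.mapHomologicalComplex (ComplexShape.up ℕ)).obj S.X₃)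
  have hn : (ComplexShape.up ℕ).next (i + 1) = i + 2 := CochainComplex.next ℕ (i + 1)
  have hn' : (ComplexShape.up ℕ).next i = i + 1 := CochainComplex.next ℕ i
  let s : S.X₃.X i ⟶ S.X₂.X i := (σ i).s
  let r : S.X₂.X (i + 1) ⟶ S.X₁.X (i + 1) := (σ (i + 1)).r
  let s' : S.X₃.X (i + 1) ⟶ S.X₂.X (i + 1) := (σ (i + 1)).s
  have hsg : s ≫ S.g.f i = 𝟙 (S.X₃.X i) := (σ i).s_g
  have hrf : r ≫ S.f.f (i + 1) = 𝟙 (S.X₂.X (i + 1)) - S.g.f (i + 1) ≫ s' := (σ (i + 1)).r_f
  have hk : ∀ {A : B} (z : A ⟶ S.X₃.X i), z ≫ S.X₃.d i (i + 1) = 0 →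
      (z ≫ s ≫ S.X₂.d i (i + 1) ≫ r) ≫ S.f.f (i + 1) =
        (z ≫ s) ≫ S.X₂.d i (i + 1) := fun z hz => by
    simp only [Category.assoc]
    rw [hrf, Preadditive.comp_sub, Preadditive.comp_sub, Preadditive.comp_sub, Category.comp_id,
      ← S.g.comm_assoc, reassoc_of% hsg, reassoc_of% hz, zero_comp, sub_zero]
  let x₁ := S.X₃.iCycles i ≫ s ≫ S.X₂.d i (i + 1) ≫ r
  have hx₁ : x₁ ≫ S.f.f (i + 1) = (S.X₃.iCycles i ≫ s) ≫ S.X₂.d i (i + 1) := hk _ (iCycles_d _ _ _)
  have e := hS.δ_eq i (i + 1) rfl (S.X₃.iCycles i) (iCycles_d _ _ _) (S.X₃.iCycles i ≫ s)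
    (by rw [Category.assoc, hsg, Category.comp_id]) x₁ hx₁ (i + 2) hn
  have l₃ : S.X₃.liftCycles (S.X₃.iCycles i) (i + 1) hn' (iCycles_d _ _ _) = 𝟙 _ := by
    rw [← cancel_mono (S.X₃.iCycles i), liftCycles_i, Category.id_comp]
  rw [l₃, Category.id_comp] at e
  let z : K₃.cycles i ⟶ Ψ.obj (S.X₃.X i) := K₃.iCycles i
  have hz : z ≫ Ψ.map (S.X₃.d i (i + 1)) = 0 := iCycles_d _ _ _
  let x₁' := z ≫ Ψ.map (s ≫ S.X₂.d i (i + 1) ≫ r)
  have hx₁' : x₁' ≫ Ψ.map (S.f.f (i + 1)) = (z ≫ Ψ.map s) ≫ Ψ.map (S.X₂.d i (i + 1)) := by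
    simp only [x₁', Category.assoc, ← Ψ.map_comp]
    rw [hrf, Preadditive.comp_sub, Preadditive.comp_sub, Category.comp_id, Ψ.map_sub, Preadditive.comp_sub,
      ← S.g.comm_assoc, reassoc_of% hsg, Ψ.map_comp (S.X₃.d i (i + 1)), reassoc_of% hz, zero_comp, sub_zero]
  have e' := hS'.δ_eq i (i + 1) rfl z (iCycles_d _ _ _) (z ≫ Ψ.map s)
    (by show (z ≫ Ψ.map s) ≫ Ψ.map (S.g.f i) = z
        rw [Category.assoc, ← Ψ.map_comp, hsg, Ψ.map_id, Category.comp_id]) x₁' hx₁' (i + 2) hn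
  have l₃' : K₃.liftCycles z (i + 1) hn' (iCycles_d _ _ _) = 𝟙 _ := by
    rw [← cancel_mono (K₃.iCycles i), liftCycles_i, Category.id_comp]
  erw [l₃', Category.id_comp] at e'
  rw [← cancel_epi (K₃.homologyπ i), ← Category.assoc]
  erw [e']
  erw [RDer.homologyπ_homologyComparison_assoc Ψ S.X₃ i, Category.assoc, RDer.homologyπ_homologyComparison]
  rw [← Ψ.map_comp]
  refine Eq.trans ?_ (congrArg (fun t => RDer.cyclesComparison Ψ S.X₃ i ≫ Ψ.map t) e.symm)
  rw [Ψ.map_comp, ← Category.assoc, ← Category.assoc]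
  congr 1
  haveI : Mono (Ψ.map (S.X₁.iCycles (i + 1))) := inferInstance
  rw [← cancel_mono (Ψ.map (S.X₁.iCycles (i + 1))), Category.assoc, Category.assoc, RDer.cyclesComparison_i,
    ← Ψ.map_comp, liftCycles_i]
  erw [liftCycles_i]
  simp only [x₁, x₁', z, Ψ.map_comp, RDer.cyclesComparison_i_assoc]
  rfl

end Comparison

end Groth.Agent.RDerBC
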