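import Groth.Prelude.Def_RDer
import Mathlib.CategoryTheory.Abelian.Injective.Resolution

/-!
# The first edge map is an isomorphism on acyclic objects
-/

set_option autoImplicit false
set_option linter.style.haveILetI false
set_option backward.isDefEq.respectTransparency false
set_option backward.isDefEq.respectTransparency.types false

open CategoryTheory CategoryTheory.Limits

namespace Groth.Agent.RDerBC

open RDer in
theorem quasiIso_mapAug {A : Type*} [Category* A] [Abelian A] [HasInjectiveResolutions A]
    {B : Type*} [Category* B] [Abelian B] (Φ : A ⥤ B) [Φ.Additive] [PreservesFiniteLimits Φ] {X : A}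
    (I : InjectiveResolution X) (h : ∀ q : ℕ, 0 < q → IsZero ((Φ.rightDerived q).obj X)) :
    QuasiIso (mapAug Φ I.ι) where
  quasiIsoAt n := by
    cases n with
    | succ n =>
      rw [quasiIsoAt_iff_exactAt _ _ (CochainComplex.exactAt_succ_single_obj _ _),
        HomologicalComplex.exactAt_iff_isZero_homology]
      exact (h (n + 1) n.succ_pos).of_iso (I.isoRightDerivedObj Φ (n + 1)).symm
    | zero =>
      rw [CochainComplex.quasiIsoAt₀_iff, ShortComplex.quasiIso_iff_of_zeros]
      · let S := ShortComplex.mk _ _ (RDer.res_ι_d I.cocomplex I.ι)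
        have hS : S.Exact := RDer.res_exact₀ I.cocomplex I.ι
        haveI : Mono S.f := RDer.res_mono I.cocomplex I.ι
        refine (ShortComplex.exact_and_mono_f_iff_of_iso ?_).2
          ⟨hS.map_of_mono_of_preservesKernel Φ inferInstance inferInstance,
            inferInstanceAs (Mono (Φ.map S.f))⟩
        refine ShortComplex.isoMk (Iso.refl _) (Iso.refl _) (Iso.refl _) ?_ ?_
        · simp [S, RDer.mapAug]
          exact (Category.id_comp _).symm
        · simp [S]
      all_goals simp

open RDer in
theorem isIso_edgeIn {A : Type*} [Category* A] [Abelian A] [HasInjectiveResolutions A]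
    {B : Type*} [Category* B] [Abelian B] [HasInjectiveResolutions B] {C : Type*} [Category* C] [Abelian C]
    (Φ : A ⥤ B) [Φ.Additive] [Φ.PreservesInjectiveObjects] [PreservesFiniteLimits Φ] (Ψ : B ⥤ C) [Ψ.Additive]
    (X : A) (h : ∀ q : ℕ, 0 < q → IsZero ((Φ.rightDerived q).obj X)) (n : ℕ) : IsIso (edgeIn Φ Ψ n X) := by
  let I := injectiveResolution X
  haveI := quasiIso_mapAug Φ I h
  let J : InjectiveResolution (Φ.obj X) :=
    { cocomplex := (Φ.mapHomologicalComplex _).obj I.cocomplex
      injective := fun m => injective_mapHomologicalComplex_X Φ I.cocomplex m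
      ι := mapAug Φ I.ι }
  let R := injectiveResolution (Φ.obj X)
  let d : R.cocomplex ⟶ J.cocomplex :=
    descToInjectives (𝟙 (Φ.obj X)) R.cocomplex R.ι J.cocomplex J.ι
  have e := InjectiveResolution.isoRightDerivedObj_hom_naturality (𝟙 _) R J d
    (ι_descToInjectives_f_zero (𝟙 (Φ.obj X)) R.cocomplex R.ι J.cocomplex J.ι) Ψ n
  rw [CategoryTheory.Functor.map_id, Category.id_comp] at e
  have e' : edgeIn Φ Ψ n X = (J.isoRightDerivedObj Ψ n).hom ≫ (I.isoRightDerivedObj (Φ ⋙ Ψ) n).inv := by
    refine (Category.assoc _ _ _).symm.trans ?_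
    exact congrArg (· ≫ (I.isoRightDerivedObj (Φ ⋙ Ψ) n).inv) e.symm
  rw [e']
  infer_instance

end Groth.Agent.RDerBC
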