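import Groth.Agent.RDerBC.Gen

/-!
# The edge maps of a composite are natural and commute with connecting maps
-/

set_option autoImplicit false
set_option linter.style.haveILetI false
set_option backward.isDefEq.respectTransparency false
set_option backward.isDefEq.respectTransparency.types false
set_option maxHeartbeats 800000

universe v v₁ v₂ u u₁ u₂

open CategoryTheory CategoryTheory.Limits HomologicalComplex

namespace Groth.Agent.RDerBC

variable {A : Type u} [Category.{v} A] [Abelian A] [HasInjectiveResolutions A]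
  {B : Type u₁} [Category.{v₁} B] [Abelian B] [HasInjectiveResolutions B]
  {C : Type u₂} [Category.{v₂} C] [Abelian C]

theorem cyclesComparison_id {ι : Type*} {c : ComplexShape ι} (K : HomologicalComplex C c) (i : ι)
    (φ : K ⟶ ((𝟭 C).mapHomologicalComplex c).obj K) (hφ : ∀ n, φ.f n = 𝟙 _) :
    homologyMap φ i ≫ RDer.homologyComparison (𝟭 C) K i = 𝟙 _ := by
  rw [← cancel_epi (K.homologyπ i), HomologicalComplex.homologyπ_naturality_assoc,
    RDer.homologyπ_homologyComparison]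
  have h : cyclesMap φ i ≫ RDer.cyclesComparison (𝟭 C) K i = 𝟙 _ := by
    rw [← cancel_mono (K.iCycles i), Category.assoc]
    refine (congrArg (cyclesMap φ i ≫ ·) (RDer.cyclesComparison_i (𝟭 C) K i)).trans ?_
    rw [cyclesMap_i, hφ]
    exact (Category.comp_id _).trans (Category.id_comp _).symm
  rw [reassoc_of% h]
  exact (Category.comp_id _).symm

section edgeIn

variable (P : A ⥤ B) [P.Additive] [P.PreservesInjectiveObjects] (Ψ : B ⥤ C) [Ψ.Additive]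

theorem edgeIn_eq (q : ℕ) (X : A) :
    RDer.edgeIn P Ψ q X = bcGen P Ψ (P ⋙ Ψ) (𝟭 C) (P ⋙ Ψ).rightUnitor.symm (𝟙 (P.obj X)) q := by
  rw [bcGen_eq P Ψ (P ⋙ Ψ) (𝟭 C) (P ⋙ Ψ).rightUnitor.symm (𝟙 (P.obj X)) (injectiveResolution (P.obj X))
    (injectiveResolution X) (RDer.descToInjectives (𝟙 (P.obj X)) (injectiveResolution (P.obj X)).cocomplex
      (injectiveResolution (P.obj X)).ι _ (RDer.mapAug P (injectiveResolution X).ι)) (by
      refine (RDer.ι_descToInjectives_f_zero _ _ _ _ _).trans ?_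
      simp [RDer.mapAug]) q]
  unfold cxMap RDer.edgeIn
  rw [homologyMap_comp, Category.assoc]
  refine congrArg (fun t => _ ≫ _ ≫ t) ?_
  refine Eq.trans ?_ (Category.assoc _ _ _)
  exact ((congrArg (· ≫ _) (cyclesComparison_id _ _ _ (fun n => rfl))).trans (Category.id_comp _)).symm

theorem edgeIn_natural (q : ℕ) {X X₂ : A} (b : X ⟶ X₂) :
    (Ψ.rightDerived q).map (P.map b) ≫ RDer.edgeIn P Ψ q X₂ =
      RDer.edgeIn P Ψ q X ≫ ((P ⋙ Ψ).rightDerived q).map b := by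
  rw [edgeIn_eq, edgeIn_eq]
  exact bcGen_natural P Ψ (P ⋙ Ψ) (𝟭 C) (P ⋙ Ψ).rightUnitor.symm _ _ (P.map b) b
    ((Category.comp_id _).trans (Category.id_comp _).symm) q

theorem edgeIn_δ {S : ShortComplex A} (hS : S.ShortExact) (hS' : (S.map P).ShortExact) (n₀ n₁ : ℕ)
    (h : n₀ + 1 = n₁) :
    (SESResLib.derivedLES Ψ).δ (S.map P) hS' n₀ n₁ h ≫ RDer.edgeIn P Ψ n₁ S.X₁ =
      RDer.edgeIn P Ψ n₀ S.X₃ ≫ (SESResLib.derivedLES (P ⋙ Ψ)).δ S hS n₀ n₁ h := by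
  rw [edgeIn_eq, edgeIn_eq]
  exact bcGen_δ P Ψ (P ⋙ Ψ) (𝟭 C) (P ⋙ Ψ).rightUnitor.symm hS' hS (𝟙 (S.map P)) n₀ n₁ h

end edgeIn

section edgeOut

variable (Φ : A ⥤ B) [Φ.Additive] (Q : B ⥤ C) [Q.Additive] [PreservesFiniteLimits Q]

instance : (𝟭 A).PreservesInjectiveObjects := ⟨fun hX => hX⟩

theorem edgeOut_eq (q : ℕ) (X : A) :
    RDer.edgeOut Φ Q q X = bcGen (𝟭 A) (Φ ⋙ Q) Φ Q (Φ ⋙ Q).leftUnitor (𝟙 X) q := by
  rw [bcGen_eq (𝟭 A) (Φ ⋙ Q) Φ Q (Φ ⋙ Q).leftUnitor (F := X) (G := X) (𝟙 X) (injectiveResolution X)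
    (injectiveResolution X)
    { f := fun n => 𝟙 _
      comm' := fun i j _ => (Category.id_comp _).trans (Category.comp_id _).symm }
    ((Category.comp_id _).trans (Category.id_comp _).symm) q]
  unfold RDer.edgeOut
  refine congrArg (_ ≫ ·) ?_
  refine (Category.id_comp _).symm.trans (congrArg (· ≫ _) ?_)
  refine (homologyMap_id _ _).symm.trans (congrArg (homologyMap · q) ?_)
  ext n
  simp [cxMap]
  exact (Category.comp_id _).symm

theorem edgeOut_natural (q : ℕ) {X X₂ : A} (b : X ⟶ X₂) :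
    ((Φ ⋙ Q).rightDerived q).map b ≫ RDer.edgeOut Φ Q q X₂ =
      RDer.edgeOut Φ Q q X ≫ Q.map ((Φ.rightDerived q).map b) := by
  rw [edgeOut_eq, edgeOut_eq]
  exact bcGen_natural (𝟭 A) (Φ ⋙ Q) Φ Q (Φ ⋙ Q).leftUnitor (G := X) (G₂ := X₂) _ _ b b
    ((Category.comp_id _).trans (Category.id_comp _).symm) q

theorem edgeOut_δ {S : ShortComplex A} (hS : S.ShortExact) (n₀ n₁ : ℕ) (h : n₀ + 1 = n₁) :
    (SESResLib.derivedLES (Φ ⋙ Q)).δ S hS n₀ n₁ h ≫ RDer.edgeOut Φ Q n₁ S.X₁ =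
      RDer.edgeOut Φ Q n₀ S.X₃ ≫ Q.map ((SESResLib.derivedLES Φ).δ S hS n₀ n₁ h) := by
  rw [edgeOut_eq, edgeOut_eq]
  exact bcGen_δ (𝟭 A) (Φ ⋙ Q) Φ Q (Φ ⋙ Q).leftUnitor hS hS
    ({ τ₁ := 𝟙 S.X₁, τ₂ := 𝟙 S.X₂, τ₃ := 𝟙 S.X₃
       comm₁₂ := (Category.id_comp _).trans (Category.comp_id _).symm
       comm₂₃ := (Category.id_comp _).trans (Category.comp_id _).symm } : S ⟶ S.map (𝟭 A)) n₀ n₁ h

end edgeOut

end Groth.Agent.RDerBC
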