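import Groth.Agent.SiteBase.SESResLib
import Groth.Agent.RDerBC.Comparison

/-!
# Lifting maps of short exact sequences to degreewise split sequences of complexes of injectives
-/

set_option autoImplicit false
set_option linter.style.haveILetI false
set_option backward.isDefEq.respectTransparency false
set_option backward.isDefEq.respectTransparency.types false

universe v u

open CategoryTheory CategoryTheory.Limits

namespace Groth.Agent.RDerBC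

variable {C : Type u} [Category.{v} C] [Abelian C] {S : ShortComplex C}

/-- a degreewise split sequence of complexes under a short complex -/
structure Target (Y : ShortComplex C) where
  L : ShortComplex (CochainComplex C ℕ)
  split : ∀ n, (L.map (HomologicalComplex.eval C _ n)).Splitting
  inj : ∀ n, Injective (L.X₁.X n)
  j₁ : Y.X₁ ⟶ L.X₁.X 0
  j₂ : Y.X₂ ⟶ L.X₂.X 0
  j₃ : Y.X₃ ⟶ L.X₃.X 0
  j₂_d : j₂ ≫ L.X₂.d 0 1 = 0
  j_f : Y.f ≫ j₂ = j₁ ≫ L.f.f 0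
  j_g : Y.g ≫ j₃ = j₂ ≫ L.g.f 0

variable {Y : ShortComplex C} (φ : S ⟶ Y) (T : RDer.SESRes S) (U : Target Y)
  (a : T.I₁.cocomplex ⟶ U.L.X₁) (c : T.I₃.cocomplex ⟶ U.L.X₃)

/-- middle components -/
def Mid (n : ℕ) : Type v :=
  {b : T.I₂.cocomplex.X n ⟶ U.L.X₂.X n //
    T.f.f n ≫ b = a.f n ≫ U.L.f.f n ∧ b ≫ U.L.g.f n = T.g.f n ≫ c.f n ∧
      SESResLib.aug T.I₂ n ≫ b ≫ U.L.X₂.d n (n + 1) = 0}

lemma mid_succ {n : ℕ} (m : Mid T U a c n) :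
    ∃ m' : Mid T U a c (n + 1), T.I₂.cocomplex.d n (n + 1) ≫ m'.1 = m.1 ≫ U.L.X₂.d n (n + 1) := by
  obtain ⟨b, hb₁, hb₃, hb⟩ := m
  have : Mono (U.L.f.f (n + 1)) := (U.split (n + 1)).shortExact.mono_f
  have := SESResLib.epi_g T n
  have : Injective ((HomologicalComplex.eval C (ComplexShape.up ℕ) (n + 1)).obj U.L.X₁) := U.inj (n + 1)
  have : Injective (U.L.X₁.X (n + 1)) := U.inj (n + 1)
  obtain ⟨b', h₁, h₃, h⟩ := SESResLib.exists_mid (SESResLib.split T (n + 1)) (U.split (n + 1))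
    (SESResLib.split T n).shortExact.exact
    (a.f (n + 1)) (c.f (n + 1)) (T.I₁.cocomplex.d n (n + 1)) (T.I₂.cocomplex.d n (n + 1))
    (T.I₃.cocomplex.d n (n + 1)) (b ≫ U.L.X₂.d n (n + 1)) (T.f.comm n (n + 1))
    (T.g.comm n (n + 1)).symm
    (by show T.f.f n ≫ b ≫ U.L.X₂.d n (n + 1) = T.I₁.cocomplex.d n (n + 1) ≫ a.f (n + 1) ≫ U.L.f.f (n + 1)
        rw [reassoc_of% hb₁, U.L.f.comm, a.comm_assoc])
    (by show (b ≫ U.L.X₂.d n (n + 1)) ≫ U.L.g.f (n + 1) = T.g.f n ≫ T.I₃.cocomplex.d n (n + 1) ≫ c.f (n + 1)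
        rw [Category.assoc, ← U.L.g.comm, reassoc_of% hb₃, c.comm])
    (fun D b₀ _ _ hD => by
      have h0 : SESResLib.aug T.I₃ n ≫ D = 0 := by
        apply SESResLib.aug₃_comp_eq_zero T D
        rw [← cancel_mono (U.L.f.f (n + 1)), Category.assoc, Category.assoc, zero_comp]
        erw [hD]
        rw [Preadditive.comp_sub, hb, reassoc_of% (SESResLib.aug_d T.I₂ n), zero_comp, sub_zero]
      exact ⟨(SESResLib.aug_exact T.I₃ n).descToInjective D h0,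
        (SESResLib.aug_exact T.I₃ n).comp_descToInjective _ _⟩)
  refine ⟨⟨b', h₁, h₃, ?_⟩, h⟩
  change T.I₂.cocomplex.d n (n + 1) ≫ _ = 0
  erw [reassoc_of% h]
  rw [HomologicalComplex.d_comp_d, comp_zero]

lemma mid_zero (ha : SESResLib.ι₀ T.I₁ ≫ a.f 0 = φ.τ₁ ≫ U.j₁) (hc : SESResLib.ι₀ T.I₃ ≫ c.f 0 = φ.τ₃ ≫ U.j₃)
    (hS : S.Exact) : Nonempty (Mid T U a c 0) := by
  have := SESResLib.epi_S_g T
  have : Injective ((HomologicalComplex.eval C (ComplexShape.up ℕ) 0).obj U.L.X₁) := U.inj 0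
  have : Injective (U.L.X₁.X 0) := U.inj 0
  obtain ⟨b, h₁, h₃, h⟩ := SESResLib.exists_mid (SESResLib.split T 0) (U.split 0) hS
    (a.f 0) (c.f 0) (SESResLib.ι₀ T.I₁) (SESResLib.ι₀ T.I₂) (SESResLib.ι₀ T.I₃) (φ.τ₂ ≫ U.j₂)
    (SESResLib.ι₀_comm T.ι_f).symm (SESResLib.ι₀_comm T.ι_g)
    (by show S.f ≫ φ.τ₂ ≫ U.j₂ = SESResLib.ι₀ T.I₁ ≫ a.f 0 ≫ U.L.f.f 0
        rw [← φ.comm₁₂_assoc, reassoc_of% ha, U.j_f])
    (by show (φ.τ₂ ≫ U.j₂) ≫ U.L.g.f 0 = S.g ≫ SESResLib.ι₀ T.I₃ ≫ c.f 0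
        rw [Category.assoc, ← U.j_g, hc, φ.comm₂₃_assoc])
    (fun D _ _ _ _ => ⟨Injective.factorThru D (SESResLib.ι₀ T.I₃), Injective.comp_factorThru _ _⟩)
  exact ⟨⟨b, h₁, h₃, by
    change SESResLib.ι₀ T.I₂ ≫ _ = 0
    erw [reassoc_of% h]
    rw [U.j₂_d, comp_zero]⟩⟩

include φ in
/-- the lift -/
theorem exists_cxHom (ha : SESResLib.ι₀ T.I₁ ≫ a.f 0 = φ.τ₁ ≫ U.j₁)
    (hc : SESResLib.ι₀ T.I₃ ≫ c.f 0 = φ.τ₃ ≫ U.j₃) (hS : S.Exact) :
    ∃ ψ : T.cx ⟶ U.L, ψ.τ₁ = a ∧ ψ.τ₃ = c := by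
  obtain ⟨m₀⟩ := mid_zero φ T U a c ha hc hS
  let ms : ∀ n, Mid T U a c n := fun n =>
    Nat.rec m₀ (fun k m => (mid_succ T U a c m).choose) n
  have hms : ∀ n, T.I₂.cocomplex.d n (n + 1) ≫ (ms (n + 1)).1 = (ms n).1 ≫ U.L.X₂.d n (n + 1) :=
    fun n => (mid_succ T U a c (ms n)).choose_spec
  let b : T.I₂.cocomplex ⟶ U.L.X₂ :=
    { f := fun n => (ms n).1
      comm' := fun i j hij => by
        obtain rfl : i + 1 = j := hij
        exact (hms i).symm }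
  refine ⟨ShortComplex.homMk a b c ?_ ?_, rfl, rfl⟩
  · ext n
    exact (ms n).2.1.symm
  · ext n
    exact (ms n).2.2.1

end Groth.Agent.RDerBC
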